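import Cfsg.Agent.H389.R.Tool
import Cfsg.Agent.H321.S3530.Types
import Cfsg.Agent.Solvable.Glauberman
import Cfsg.Agent.Walter.AbStruct
import Mathlib

/-!
# S3530: an element of order three commuting with a given one, types of the components (helper431)
-/

set_option autoImplicit false

namespace Cfsg.Agent.H389.RSq

open Subgroup
open Cfsg.Agent.H389.JSq (Has)

universe u v

variable {m : ℕ} {X Y : Type u} [Group X] [Finite X] [Group Y] [Finite Y]

namespace H431Aux

/-- the conjugation action on subgroups -/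
@[reducible] def actS (G : Type*) [Group G] : MulAction G (Subgroup G) where
  smul a H := H.map (MulAut.conj a).toMonoidHom
  one_smul H := by
    change H.map (MulAut.conj (1 : G)).toMonoidHom = H
    have : (MulAut.conj (1 : G)).toMonoidHom = MonoidHom.id G := by
      ext x
      simp
    rw [this, Subgroup.map_id]
  mul_smul a b H := by
    change H.map (MulAut.conj (a * b)).toMonoidHom = (H.map (MulAut.conj b).toMonoidHom).map (MulAut.conj a).toMonoidHom
    rw [Subgroup.map_map]
    congr 1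
    ext x
    simp [mul_assoc]

theorem smul_zpowers' {G : Type*} [Group G] (a z : G) :
    (zpowers z).map (MulAut.conj a).toMonoidHom = zpowers (a * z * a⁻¹) := by
  rw [MonoidHom.map_zpowers]
  rfl

theorem zpowers_eq_of_three {G : Type*} [Group G] [Finite G] {a b : G} (ha : orderOf a = 3) (hb : orderOf b = 3)
    (h : a ∈ zpowers b) : zpowers a = zpowers b := by
  apply eq_of_le_of_card_ge
  · rwa [zpowers_le]
  · rw [Nat.card_zpowers, Nat.card_zpowers, ha, hb]

theorem solv_zpowers {G : Type*} [Group G] (y : G) : Group.IsSolvable (zpowers y) := by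
  letI : CommGroup (zpowers y) := { (inferInstance : Group (zpowers y)) with
    mul_comm := fun a b => (inferInstance : IsMulCommutative (zpowers y)).is_comm.comm a b }
  infer_instance

/-- an element of odd order that normalises a subgroup of order three centralises it -/
theorem commute_of_three {G : Type*} [Group G] [Finite G] {y z : G} (hz : orderOf z = 3) (hy : Odd (orderOf y))
    (h : y * z * y⁻¹ ∈ zpowers z) : Commute y z := by
  have h1 : y * z * y⁻¹ = z ∨ y * z * y⁻¹ = z⁻¹ := by
    obtain ⟨k, hk⟩ := mem_zpowers_iff.1 h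
    have h2 : z ^ (k % 3) = y * z * y⁻¹ := by
      rw [← hk]
      have := zpow_mod_orderOf z k
      rwa [hz] at this
    have h3 : y * z * y⁻¹ ≠ 1 := by
      intro h4
      have h5 : z = 1 := by
        have := congrArg (fun w => y⁻¹ * w * y) h4
        simpa [mul_assoc] using this
      rw [h5, orderOf_one] at hz
      omega
    have h4 : k % 3 = 0 ∨ k % 3 = 1 ∨ k % 3 = 2 := by omega
    rcases h4 with h4 | h4 | h4
    · rw [h4, zpow_zero] at h2
      exact absurd h2.symm h3
    · rw [h4, zpow_one] at h2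
      exact Or.inl h2.symm
    · rw [h4] at h2
      right
      rw [← h2]
      have h5 : z ^ 3 = 1 := by rw [← hz]; exact pow_orderOf_eq_one z
      rw [eq_inv_iff_mul_eq_one]
      have : z ^ (2 : ℤ) * z = z ^ 3 := by
        rw [show (2 : ℤ) = ((2 : ℕ) : ℤ) from rfl, zpow_natCast, ← pow_succ]
      rw [this, h5]
  rcases h1 with h1 | h1
  · exact mul_inv_eq_iff_eq_mul.1 h1
  · exfalso
    have h2 : ∀ k : ℕ, y ^ (2 * k) * z * (y ^ (2 * k))⁻¹ = z := by
      intro k
      induction k with
      | zero => simp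
      | succ k ih =>
        have e1 : y ^ (2 * (k + 1)) = y ^ (2 * k) * (y * y) := by
          rw [show 2 * (k + 1) = 2 * k + 2 by ring, pow_add, pow_two]
        have e2 : y * z⁻¹ * y⁻¹ = z := by
          have := congrArg (·⁻¹) h1
          simpa [mul_assoc] using this
        have e3 : y * y * z * (y * y)⁻¹ = z := by
          calc y * y * z * (y * y)⁻¹ = y * (y * z * y⁻¹) * y⁻¹ := by group
            _ = z := by rw [h1, e2]
        calc y ^ (2 * (k + 1)) * z * (y ^ (2 * (k + 1)))⁻¹
            = y ^ (2 * k) * (y * y * z * (y * y)⁻¹) * (y ^ (2 * k))⁻¹ := by rw [e1]; group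
          _ = z := by rw [e3, ih]
    obtain ⟨k, hk⟩ := hy
    have h3 : y ^ (2 * k + 1) = 1 := by rw [← hk]; exact pow_orderOf_eq_one y
    have h4 : y ^ (2 * k) = y⁻¹ := by
      rw [pow_succ] at h3
      exact eq_inv_of_mul_eq_one_left h3
    have h5 := h2 k
    rw [h4, inv_inv] at h5
    have h6 : z = z⁻¹ := by
      calc z = y * (y⁻¹ * z * y) * y⁻¹ := by group
        _ = z⁻¹ := by rw [h5, h1]
    have h7 : z ^ 2 = 1 := by
      rw [pow_two]
      nth_rewrite 2 [h6]
      exact mul_inv_cancel z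
    have h8 := orderOf_dvd_of_pow_eq_one h7
    rw [hz] at h8
    omega

end H431Aux

open H431Aux in
/-- **Glauberman**: a coprime odd element commutes with an element of order three of `K` -/
theorem exists_comm_three {K : Subgroup Y} [K.Normal]
    (hK : ∃ z : K, orderOf z = 3 ∧ ∀ α : MulAut K, ∃ g : K, α z ∈ zpowers (g * z * g⁻¹)) {y : Y}
    (hy : (orderOf y).Coprime (Nat.card K)) (hodd : Odd (orderOf y)) : ∃ z ∈ K, orderOf z = 3 ∧ Commute y z := by
  obtain ⟨z, hz, hα⟩ := hK
  let act : MulAction Y (Subgroup Y) := actS Y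
  have hact : ∀ (a : Y) (w : Y), a • zpowers w = zpowers (a * w * a⁻¹) :=
    fun a w => smul_zpowers' a w
  have hzY : orderOf (z : Y) = 3 := by rw [Subgroup.orderOf_coe, hz]
  have hconj : ∀ (a w : Y), orderOf (a * w * a⁻¹) = orderOf w := fun a w =>
    (MulAut.conj a).orderOf_eq w
  obtain ⟨k, hkK, hk⟩ := Cfsg.Agent.Solvable.Glauberman.exists_smul_fixed (zpowers y) K
    (by rw [normalizer_eq_top K]; exact le_top)
    (by rw [Nat.card_zpowers]; exact hy) (Or.inl (by
      exact solv_zpowers y)) (zpowers (z : Y)) (fun a _ => by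
        obtain ⟨g, hg⟩ := hα (MulAut.conjNormal a)
        refine ⟨(g : Y), g.2, ?_⟩
        refine (hact a z).trans ((?_ : _ = _).trans (hact g z).symm)
        apply zpowers_eq_of_three (by rw [hconj, hzY]) (by rw [hconj, hzY])
        obtain ⟨j, hj⟩ := mem_zpowers_iff.1 hg
        refine mem_zpowers_iff.2 ⟨j, ?_⟩
        have := congrArg Subtype.val hj
        rw [MulAut.conjNormal_apply] at this
        rw [← this]
        rfl)
  refine ⟨k * z * k⁻¹, K.mul_mem (K.mul_mem hkK z.2) (K.inv_mem hkK), by rw [hconj, hzY], ?_⟩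
  apply commute_of_three (by rw [hconj, hzY]) hodd
  have h1 := hk y (mem_zpowers y)
  have h2 : zpowers (y * (k * z * k⁻¹) * y⁻¹) = zpowers (k * z * k⁻¹) := by
    rw [← hact y, ← hact k]
    exact h1
  rw [← h2]
  exact mem_zpowers _

open H431Aux in
/-- **the types of the components** -/
theorem Cl.isK_component (h : Cl m X) {K : Subgroup (X ⧸ Cfsg.pPrimeCore 2 X)} (hK : Cfsg.IsComponent K) : IsK K := by
  have hZ : Cl m (X ⧸ Cfsg.pPrimeCore 2 X) := h.quotient _
  have hcore : Cfsg.pPrimeCore 2 (X ⧸ Cfsg.pPrimeCore 2 X) = ⊥ := Lib.Cores.pPrimeCore_quotient_pPrimeCore 2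
  have hcl : Cl m K := hZ.subgroup K
  obtain ⟨S⟩ : Nonempty (Sylow 2 (X ⧸ Cfsg.pPrimeCore 2 X)) := inferInstance
  have hexp : ∀ a ∈ (S : Subgroup (X ⧸ Cfsg.pPrimeCore 2 X)), a * a = 1 := by
    intro a ha
    obtain ⟨k, hk⟩ := (IsPGroup.iff_orderOf.1 S.2) ⟨a, ha⟩
    rw [Subgroup.orderOf_mk] at hk
    rcases Nat.lt_or_ge k 2 with h2 | h2
    · have h3 : orderOf a ∣ 2 := by
        rw [hk]
        exact (pow_dvd_pow 2 (by omega : k ≤ 1)).trans (by norm_num)
      rw [← pow_two]
      exact orderOf_dvd_iff_pow_eq_one.1 h3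
    · exact absurd (by rw [hk]; exact (by norm_num : (4 : ℕ) ∣ 2 ^ 2).trans (pow_dvd_pow 2 h2)) (hZ.four a)
  have hcomm : ∀ a ∈ (S : Subgroup (X ⧸ Cfsg.pPrimeCore 2 X)), ∀ b ∈ (S : Subgroup (X ⧸ Cfsg.pPrimeCore 2 X)),
      a * b = b * a := by
    intro a ha b hb
    have h1 := hexp (a * b) (mul_mem ha hb)
    have h2 := hexp a ha
    have h3 := hexp b hb
    have h4 : (a * b)⁻¹ = a * b := inv_eq_of_mul_eq_one_right h1
    rw [mul_inv_rev, inv_eq_of_mul_eq_one_right h2, inv_eq_of_mul_eq_one_right h3] at h4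
    exact h4.symm
  have : IsSimpleGroup K := Cfsg.Agent.Walter.AbStruct.isSimpleGroup (S := S) hcore hcomm hK
  have hna : ¬ IsMulCommutative K := by
    intro hc
    have hperf := hK.2.1
    have h1 : ⁅(⊤ : Subgroup K), (⊤ : Subgroup K)⁆ = ⊥ := by
      rw [eq_bot_iff, commutator_le]
      intro a _ b _
      rw [mem_bot, commutatorElement_eq_one_iff_mul_comm]
      exact hc.is_comm.comm a b
    have h2 : commutator K = ⊤ := hperf.commutator_eq_top
    rw [commutator_def] at h2
    rw [h2] at h1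
    have := (inferInstance : Nontrivial K)
    exact top_ne_bot h1
  refine isK_of_simple (m := m) hna hcl.four fun h5 => ?_
  have : Fact (Nat.Prime 5) := ⟨by norm_num⟩
  obtain ⟨g, hg⟩ := exists_prime_orderOf_dvd_card' (G := K) 5 h5
  have h6 := hcl.prm g 5 (by norm_num) (by rw [hg])
  -- `5 ∤ reeCard m`
  have hq : (3 ^ (2 * m + 1)) % 5 = 3 ∨ (3 ^ (2 * m + 1)) % 5 = 2 := by
    clear h6 hcl hZ h
    induction m with
    | zero => left; norm_num
    | succ m ih =>
      have h7 : 3 ^ (2 * (m + 1) + 1) = 3 ^ (2 * m + 1) * 9 := by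
        rw [show 2 * (m + 1) + 1 = 2 * m + 1 + 2 by ring, pow_add]; norm_num
      rw [h7]
      omega
  unfold reeCard at h6
  have hp5 : Nat.Prime 5 := by norm_num
  rcases hp5.dvd_mul.1 h6 with h7 | h7
  · rcases hp5.dvd_mul.1 h7 with h8 | h8
    · have h9 := hp5.dvd_of_dvd_pow (hp5.dvd_of_dvd_pow h8)
      omega
    · have h9 : ((3 ^ (2 * m + 1)) ^ 3 + 1) % 5 = 0 := Nat.mod_eq_zero_of_dvd h8
      rw [Nat.add_mod, Nat.pow_mod] at h9
      rcases hq with hq | hq <;> rw [hq] at h9 <;> norm_num at h9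
  · have h9 : ∀ x : ℕ, (x % 5 = 3 ∨ x % 5 = 2) → ¬ 5 ∣ x - 1 := by
      intro x hx hd
      omega
    exact h9 _ hq h7

end Cfsg.Agent.H389.RSq
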